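import Mathlib.AlgebraicGeometry.Morphisms.Etale
import Mathlib.AlgebraicGeometry.Noetherian
import Groth.Agent.Hensel.AscentReg
import Groth.Agent.Hensel.TrivialFibresAtPrime
import Groth.Agent.FpqcDescent.Flat
import Groth.Agent.SmoothReduced.Basic
import Groth.Agent.IrredComp.Basic

/-!
# Local rings of étale morphisms: dimension, regularity, reducedness
-/

set_option autoImplicit false
set_option backward.isDefEq.respectTransparency.types false

universe u

open CategoryTheory AlgebraicGeometry IsLocalRing

namespace Groth.Agent.EtaleStalk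

variable {X Y : Scheme.{u}} (f : X ⟶ Y) [Etale f] [IsLocallyNoetherian Y] (x : X)

theorem ringKrullDim_eq :
    ringKrullDim (X.presheaf.stalk x) = ringKrullDim (Y.presheaf.stalk (f x)) := by
  have := LocallyOfFiniteType.isLocallyNoetherian f
  have hff := FpqcDescent.faithfullyFlat_stalkMap f x (Flat.stalkMap f x)
  have hu : (f.stalkMap x).hom.FormallyUnramified := FormallyUnramified.stalkMap f x
  have he : (f.stalkMap x).hom.EssFiniteType := LocallyOfFiniteType.stalkMap f x
  let := (f.stalkMap x).hom.toAlgebra
  have : Module.FaithfullyFlat (Y.presheaf.stalk (f x)) (X.presheaf.stalk x) := hff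
  have : Algebra.FormallyUnramified (Y.presheaf.stalk (f x)) (X.presheaf.stalk x) := hu
  have : Algebra.EssFiniteType (Y.presheaf.stalk (f x)) (X.presheaf.stalk x) := he
  have : IsLocalHom (algebraMap (Y.presheaf.stalk (f x)) (X.presheaf.stalk x)) :=
    inferInstanceAs (IsLocalHom (f.stalkMap x).hom)
  exact Hensel.ringKrullDim_eq_of_faithfullyFlat Algebra.FormallyUnramified.map_maximalIdeal

theorem isRegularLocalRing_iff :
    IsRegularLocalRing (X.presheaf.stalk x) ↔ IsRegularLocalRing (Y.presheaf.stalk (f x)) := by
  have := LocallyOfFiniteType.isLocallyNoetherian f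
  have hff := FpqcDescent.faithfullyFlat_stalkMap f x (Flat.stalkMap f x)
  have hu : (f.stalkMap x).hom.FormallyUnramified := FormallyUnramified.stalkMap f x
  have he : (f.stalkMap x).hom.EssFiniteType := LocallyOfFiniteType.stalkMap f x
  let := (f.stalkMap x).hom.toAlgebra
  have : Module.FaithfullyFlat (Y.presheaf.stalk (f x)) (X.presheaf.stalk x) := hff
  have : Algebra.FormallyUnramified (Y.presheaf.stalk (f x)) (X.presheaf.stalk x) := hu
  have : Algebra.EssFiniteType (Y.presheaf.stalk (f x)) (X.presheaf.stalk x) := he
  have : IsLocalHom (algebraMap (Y.presheaf.stalk (f x)) (X.presheaf.stalk x)) :=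
    inferInstanceAs (IsLocalHom (f.stalkMap x).hom)
  exact (Hensel.isRegularLocalRing_iff_of_map_maximalIdeal
    Algebra.FormallyUnramified.map_maximalIdeal (ringKrullDim_eq f x)).symm

theorem isReduced_iff :
    _root_.IsReduced (X.presheaf.stalk x) ↔ _root_.IsReduced (Y.presheaf.stalk (f x)) := by
  constructor
  · intro h
    exact isReduced_of_injective _
      (FpqcDescent.faithfullyFlat_stalkMap f x (Flat.stalkMap f x)).injective
  · intro h
    obtain ⟨U, hxU, hU⟩ := IrredComp.exists_reduced_nhd Y (f x)
    have := SmoothReduced.isReduced_of_smooth_scheme (f ∣_ U)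
    exact isReduced_of_injective _
      ((f ⁻¹ᵁ U).stalkIso ⟨x, hxU⟩).symm.commRingCatIsoToRingEquiv.injective

end Groth.Agent.EtaleStalk
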